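import Groth.Prelude.Def_CGrpSh2
import Groth.Prelude.Def_GmPts
import Mathlib.AlgebraicGeometry.Pullbacks
import Mathlib.AlgebraicGeometry.AffineScheme
import Mathlib.LinearAlgebra.FreeModule.Basic
import Mathlib.RingTheory.TensorProduct.Free

/-!
# Sections of dual sheaves are determined by universal points
-/

set_option autoImplicit false

universe u

open CategoryTheory CategoryTheory.Limits MonoidalCategory CartesianMonoidalCategory MonObj AlgebraicGeometry Opposite TensorProduct

namespace Groth.Agent.DualSec79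

variable {K : Precoverage Scheme.{u}} {S : Scheme.{u}} [(QuotSh.J K S).Subcanonical]
variable {G : Over S} [GrpObj G] [IsCommMonObj G]

/-- The universal point of `G` over `T`. -/
noncomputable def univPt (T : Over S) :
    ((CGrpSh.pts K G).over T).obj.obj (op (Over.mk (fst T G))) :=
  (ULift.up (Additive.ofMul (snd T G)) : ToType ((CGrpSh.pts K G).obj.obj (op (T ⊗ G))))

/-- A character over `T` is zero when it kills the universal point. -/
theorem eq_zero_of_univ {T : Over S} (χ : (CGrpSh.pts K G).over T ⟶ (CGrpSh2.Gm K S).over T)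
    (h : χ.hom.app (op (Over.mk (fst T G))) (univPt T) = 0) : χ = 0 := by
  refine Sheaf.hom_ext (NatTrans.ext (funext fun U => AddCommGrpCat.ext fun x => ?_))
  let a : U.unop.left ⟶ G := (x : ULift.{u + 1} (Additive (U.unop.left ⟶ G))).down.toMul
  let g : U.unop ⟶ Over.mk (fst T G) := Over.homMk (lift U.unop.hom a) (lift_fst _ _)
  have hn := NatTrans.naturality_apply χ.hom g.op (univPt (K := K) (G := G) T)
  have he : ((CGrpSh.pts K G).over T).obj.map g.op (univPt T) = x :=
    ULift.ext _ _ (congrArg Additive.ofMul (lift_snd U.unop.hom a))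
  rw [he, h, map_zero] at hn
  exact hn

/-- If the restriction of a character along `g` is zero, so is the pullback of its value at the universal point. -/
theorem univ_of_restrict {T T' : Over S} (g : T' ⟶ T) (χ : (CGrpSh.pts K G).over T ⟶ (CGrpSh2.Gm K S).over T)
    (h : (CGrpSh2.dualSh K (CGrpSh.pts K G)).obj.map g.op χ = (0 : (CGrpSh.pts K G).over T' ⟶ _)) :
    g ▷ G ≫ (χ.hom.app (op (Over.mk (fst T G))) (univPt T) : ULift.{u + 1} (Additive (T ⊗ G ⟶ Red.Gm S))).down.toMul =
      1 := by
  let U : Over T := (Over.map g).obj (Over.mk (fst T' G))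
  let w : U ⟶ Over.mk (fst T G) := Over.homMk (g ▷ G) (whiskerRight_fst _ _)
  have hn := NatTrans.naturality_apply χ.hom w.op (univPt (K := K) (G := G) T)
  have h0 : ((CGrpSh2.dualSh K (CGrpSh.pts K G)).obj.map g.op χ : (CGrpSh.pts K G).over T' ⟶ _).hom.app
      (op (Over.mk (fst T' G))) (univPt T') = 0 := by
    rw [h]; rfl
  have hu : ((CGrpSh.pts K G).over T).obj.map w.op (univPt T) =
      (univPt T' : ((CGrpSh.pts K G).over T').obj.obj (op (Over.mk (fst T' G)))) :=
    ULift.ext _ _ (congrArg Additive.ofMul (whiskerRight_snd g G))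
  rw [hu] at hn
  have h1 := hn.symm.trans h0
  exact congrArg (fun z : ULift.{u + 1} (Additive (T' ⊗ G ⟶ Red.Gm S)) => z.down.toMul) h1

section Affine

variable {O F : Type u} [CommRing O] [Field F] (φ : O →+* F)

local notation "SO" => Spec (CommRingCat.of O)

variable (G : Over (Spec (CommRingCat.of O)))

/-- The generic fibre. -/
noncomputable abbrev fib : Scheme.{u} := pullback G.hom (Spec.map (CommRingCat.ofHom φ))

variable [IsAffine (fib φ G)]

/-- The coordinate ring of the generic fibre. -/
noncomputable abbrev fibRing : Type u := Γ(fib φ G, ⊤)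

noncomputable instance algFib : Algebra F (fibRing φ G) :=
  ((Scheme.ΓSpecIso (CommRingCat.of F)).inv ≫ (pullback.snd G.hom (Spec.map (CommRingCat.ofHom φ))).appTop).hom.toAlgebra

theorem fib_w : (fib φ G).isoSpec.inv ≫ pullback.snd G.hom (Spec.map (CommRingCat.ofHom φ)) =
    Spec.map (CommRingCat.ofHom (algebraMap F (fibRing φ G))) := by
  rw [← cancel_epi (fib φ G).isoSpec.hom, Iso.hom_inv_id_assoc, RingHom.algebraMap_toAlgebra]
  show _ = (fib φ G).toSpecΓ ≫ Spec.map ((Scheme.ΓSpecIso (CommRingCat.of F)).inv ≫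
    (pullback.snd G.hom (Spec.map (CommRingCat.ofHom φ))).appTop)
  rw [Spec.map_comp, ← Scheme.toSpecΓ_naturality_assoc, ← SpecMap_ΓSpecIso_hom, ← Spec.map_comp,
    Iso.inv_hom_id, Spec.map_id, Category.comp_id]

variable (R : Type u) [CommRing R] [Algebra F R]

/-- `Spec R` over `Spec O`. -/
noncomputable abbrev specR : Over (Spec (CommRingCat.of O)) :=
  Over.mk (Spec.map (CommRingCat.ofHom ((algebraMap F R).comp φ)))

theorem isPullback_tensor :
    IsPullback (Spec.map (CommRingCat.ofHom (Algebra.TensorProduct.includeLeftRingHom (R := F) (A := R) (B := fibRing φ G))))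
      (Spec.map (CommRingCat.ofHom (Algebra.TensorProduct.includeRight (R := F) (A := R) (B := fibRing φ G)).toRingHom) ≫
        (fib φ G).isoSpec.inv ≫ pullback.fst G.hom (Spec.map (CommRingCat.ofHom φ)))
      (specR φ R).hom G.hom := by
  have h1 : IsPullback (pullback.fst _ _) (pullback.snd _ _)
      (Spec.map (CommRingCat.ofHom (algebraMap F R))) (Spec.map (CommRingCat.ofHom (algebraMap F (fibRing φ G)))) :=
    IsPullback.of_hasPullback _ _
  have h2 := h1.of_iso (pullbackSpecIso F R (fibRing φ G)) (Iso.refl _) (Iso.refl _) (Iso.refl _)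
    (fst' := Spec.map (CommRingCat.ofHom (Algebra.TensorProduct.includeLeftRingHom (R := F) (A := R) (B := fibRing φ G))))
    (snd' := Spec.map (CommRingCat.ofHom (Algebra.TensorProduct.includeRight (R := F) (A := R) (B := fibRing φ G)).toRingHom))
    (f' := Spec.map (CommRingCat.ofHom (algebraMap F R)))
    (g' := Spec.map (CommRingCat.ofHom (algebraMap F (fibRing φ G))))
    (by simp) (by simp) (by simp) (by simp)
  have h3 : IsPullback ((fib φ G).isoSpec.inv ≫ pullback.fst G.hom (Spec.map (CommRingCat.ofHom φ)))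
      (Spec.map (CommRingCat.ofHom (algebraMap F (fibRing φ G)))) G.hom (Spec.map (CommRingCat.ofHom φ)) := by
    refine (IsPullback.of_hasPullback G.hom (Spec.map (CommRingCat.ofHom φ))).of_iso (fib φ G).isoSpec
      (Iso.refl _) (Iso.refl _) (Iso.refl _) (by simp) ?_ (by simp) (by simp)
    rw [Iso.refl_hom, Category.comp_id, ← fib_w, Iso.hom_inv_id_assoc]
  have h4 := h2.paste_vert h3.flip
  have e : (specR φ R).hom = Spec.map (CommRingCat.ofHom (algebraMap F R)) ≫ Spec.map (CommRingCat.ofHom φ) :=
    by rw [← Spec.map_comp]; rfl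
  rw [e]
  exact h4

/-- The product of `Spec R` with `G` as a spectrum. -/
noncomputable def prodIso : Spec (CommRingCat.of (R ⊗[F] fibRing φ G)) ≅ (specR φ R ⊗ G).left :=
  (isPullback_tensor φ G R).isoPullback

variable {R}
variable {R' : Type u} [CommRing R'] [Algebra F R'] (p : R →ₐ[F] R')

/-- The morphism of spectra over `Spec O`. -/
noncomputable def specMor : specR φ R' ⟶ specR φ R :=
  Over.homMk (Spec.map (CommRingCat.ofHom p.toRingHom)) (by
    show Spec.map _ ≫ Spec.map _ = Spec.map _
    rw [← Spec.map_comp]; congr 1; ext x; exact p.commutes (φ x))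

theorem prodIso_naturality :
    (prodIso φ G R').hom ≫ (specMor φ p ▷ G).left =
      Spec.map (CommRingCat.ofHom (Algebra.TensorProduct.map p (AlgHom.id F (fibRing φ G))).toRingHom) ≫
        (prodIso φ G R).hom := by
  apply pullback.hom_ext
  · have h1 : (specMor φ p ▷ G).left ≫ pullback.fst (specR φ R).hom G.hom =
        pullback.fst (specR φ R').hom G.hom ≫ Spec.map (CommRingCat.ofHom p.toRingHom) :=
      congrArg (fun m => m.left) (whiskerRight_fst (specMor φ p) G)
    rw [Category.assoc, Category.assoc, h1, prodIso, prodIso, IsPullback.isoPullback_hom_fst,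
      IsPullback.isoPullback_hom_fst_assoc, ← Spec.map_comp, ← Spec.map_comp]
    congr 1
  · have h1 : (specMor φ p ▷ G).left ≫ pullback.snd (specR φ R).hom G.hom =
        pullback.snd (specR φ R').hom G.hom :=
      congrArg (fun m => m.left) (whiskerRight_snd (specMor φ p) G)
    rw [Category.assoc, Category.assoc, h1, prodIso, prodIso, IsPullback.isoPullback_hom_snd,
      IsPullback.isoPullback_hom_snd, ← Spec.map_comp_assoc]
    congr 2
    ext b
    simp

omit [IsAffine (fib φ G)] in
theorem tensor_jointly_injective {B : Type u} [CommRing B] [Algebra F B] {J : Type*} {Ri : J → Type u}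
    [∀ i, CommRing (Ri i)] [∀ i, Algebra F (Ri i)] (pi : ∀ i, R →ₐ[F] Ri i)
    (hp : ∀ r, (∀ i, pi i r = 0) → r = 0) (z : R ⊗[F] B)
    (hz : ∀ i, Algebra.TensorProduct.map (pi i) (AlgHom.id F B) z = 0) : z = 0 := by
  classical
  let b := Module.Basis.ofVectorSpace F B
  apply (TensorProduct.equivFinsuppOfBasisRight (M := R) b).injective
  rw [map_zero]
  ext j
  rw [Finsupp.zero_apply]
  refine hp _ fun i => ?_
  have key : ∀ w : R ⊗[F] B, TensorProduct.equivFinsuppOfBasisRight b
      (Algebra.TensorProduct.map (pi i) (AlgHom.id F B) w) j = pi i (TensorProduct.equivFinsuppOfBasisRight b w j) := by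
    intro w
    induction w using TensorProduct.induction_on with
    | zero => simp
    | add u v hu hv => simp only [map_add, Finsupp.add_apply, hu, hv]
    | tmul r c => simp
  rw [← key, hz, map_zero, Finsupp.zero_apply]

variable [GrpObj G] [IsCommMonObj G] {P : Precoverage Scheme.{u}} [(QuotSh.J P (Spec (CommRingCat.of O))).Subcanonical]

/-- A character over `Spec R` which dies over each member of a jointly injective family of algebras is zero. -/
theorem eq_zero_of_restrict {J : Type*} {Ri : J → Type u} [∀ i, CommRing (Ri i)] [∀ i, Algebra F (Ri i)]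
    (pi : ∀ i, R →ₐ[F] Ri i) (hp : ∀ r, (∀ i, pi i r = 0) → r = 0)
    (χ : (CGrpSh.pts P G).over (specR φ R) ⟶ (CGrpSh2.Gm P (Spec (CommRingCat.of O))).over (specR φ R))
    (h : ∀ i, (CGrpSh2.dualSh P (CGrpSh.pts P G)).obj.map (specMor φ (pi i)).op χ =
      (0 : (CGrpSh.pts P G).over (specR φ (Ri i)) ⟶ _)) : χ = 0 := by
  apply eq_zero_of_univ
  set y : specR φ R ⊗ G ⟶ Red.Gm _ := (χ.hom.app (op (Over.mk (fst (specR φ R) G))) (univPt _) :
    ULift.{u + 1} (Additive (specR φ R ⊗ G ⟶ Red.Gm (Spec (CommRingCat.of O))))).down.toMul with hy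
  have hy1 : y = 1 := by
    apply GmPts.gmFn_injective
    show Red.gmFn y = Red.gmFn 1
    rw [GmPts.gmFn_one]
    have : IsIso (prodIso φ G R).hom.appTop := inferInstanceAs (IsIso (Scheme.Γ.map (prodIso φ G R).hom.op))
    have hinj : Function.Injective (prodIso φ G R).hom.appTop :=
      (ConcreteCategory.bijective_of_isIso (prodIso φ G R).hom.appTop).injective
    apply hinj
    apply (Scheme.ΓSpecIso _).commRingCatIsoToRingEquiv.injective
    rw [map_one, map_one, ← sub_eq_zero]
    refine tensor_jointly_injective pi hp _ fun i => ?_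
    have hi := congrArg Red.gmFn (univ_of_restrict (specMor φ (pi i)) χ (h i))
    rw [← hy, GmPts.gmFn_comp, GmPts.gmFn_one] at hi
    have hn := congrArg (fun m => m.appTop) (prodIso_naturality φ G (pi i))
    simp only [Scheme.Hom.comp_appTop] at hn
    have hn' := ConcreteCategory.congr_hom hn (Red.gmFn y)
    simp only [ConcreteCategory.comp_apply, hi, map_one] at hn'
    rw [map_sub, map_one, sub_eq_zero]
    have hΓ := ConcreteCategory.congr_hom (Scheme.ΓSpecIso_naturality
      (CommRingCat.ofHom (Algebra.TensorProduct.map (pi i) (AlgHom.id F (fibRing φ G))).toRingHom))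
      ((prodIso φ G R).hom.appTop (Red.gmFn y))
    simp only [ConcreteCategory.comp_apply, ← hn', map_one] at hΓ
    exact hΓ.symm
  apply ULift.ext
  exact congrArg Additive.ofMul hy1

end Affine

end Groth.Agent.DualSec79
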